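import Groth.Agent.Lib.LiaisonH1.Final
import Groth.Agent.Lib.Miracle4
import Groth.Agent.Lib.RegLoc.Basic

/-!
Linkage in a Gorenstein local ring flat over a base.
-/

universe u

open IsLocalRing RingTheory.Sequence

namespace Groth.Agent.LiaisonFlat2

section Gor

variable {A : Type u} [CommRing A] [LocCoh.IsGorensteinLocalRing A]

theorem annihilator_eq (I : Ideal A) : Submodule.annihilator I = (⊥ : Ideal A).colon (I : Set A) := by
  ext a
  rw [Submodule.mem_annihilator, LiaisonH1.mem_colon_iff]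
  rfl

/-- A Cohen–Macaulay quotient of full dimension is maximal Cohen–Macaulay. -/
theorem depth_quot {I : Ideal A} [LocCoh.IsCohenMacaulayLocalRing (A ⧸ I)] {d : ℕ}
    (hd : ringKrullDim A = (d : WithBot ℕ∞)) (hI : ringKrullDim (A ⧸ I) = ringKrullDim A) :
    (d : ℕ∞) ≤ LocCoh.depth A (A ⧸ I) := by
  have h := LocCoh.IsCohenMacaulayLocalRing.supportDim_eq_depth (R := A ⧸ I)
  rw [Module.supportDim_self_eq_ringKrullDim, hI, hd, LiaisonH1.depth_self_eq I (RingEquiv.refl _)] at h
  exact (show (d : ℕ∞) = LocCoh.depth A (A ⧸ I) from WithBot.coe_injective (by exact_mod_cast h)).le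

theorem isCM_quot {J : Ideal A} (hJ : J ≠ ⊤) {d : ℕ} (hd : ringKrullDim A = (d : WithBot ℕ∞))
    (hdep : (d : ℕ∞) ≤ LocCoh.depth A (A ⧸ J)) :
    Module.supportDim A (A ⧸ J) = (d : WithBot ℕ∞) ∧ LocCoh.IsCohenMacaulayModule A (A ⧸ J) := by
  haveI : Nontrivial (A ⧸ J) := Ideal.Quotient.nontrivial_iff.2 hJ
  have h1 : Module.supportDim A (A ⧸ J) ≤ (d : WithBot ℕ∞) := by
    rw [Module.supportDim_quotient_eq_ringKrullDim, ← hd]
    exact ringKrullDim_le_of_surjective (Ideal.Quotient.mk J) Ideal.Quotient.mk_surjective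
  have h2 := DepthLib.depth_le_supportDim (R := A) (M := A ⧸ J)
  have h3 : ((d : ℕ∞) : WithBot ℕ∞) ≤ ((LocCoh.depth A (A ⧸ J) : ℕ∞) : WithBot ℕ∞) := WithBot.coe_le_coe.2 hdep
  have h4 : Module.supportDim A (A ⧸ J) = (d : WithBot ℕ∞) := le_antisymm h1 ((h3.trans h2))
  refine ⟨h4, le_antisymm ?_ h2⟩
  rw [h4]
  exact h3

/-- A regular element is regular on a maximal Cohen–Macaulay quotient. -/
theorem regular_quot {I : Ideal A} (hIne : I ≠ ⊤) {d : ℕ} (hd : ringKrullDim A = ((d + 1 : ℕ) : WithBot ℕ∞))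
    (hI : ((d + 1 : ℕ) : ℕ∞) ≤ LocCoh.depth A (A ⧸ I)) {x : A} (hx : x ∈ maximalIdeal A)
    (hreg : IsSMulRegular A x) : IsSMulRegular (A ⧸ I) x := by
  obtain ⟨hsupp, hCM⟩ := isCM_quot hIne hd hI
  refine (isSMulRegular_iff_ker_lsmul_eq_bot (A ⧸ I) x).2 ?_
  by_contra hne
  obtain ⟨m, hm, hm0⟩ := Submodule.exists_mem_ne_zero_of_ne_bot hne
  obtain ⟨p, hp, hxp⟩ : ∃ p ∈ associatedPrimes A (A ⧸ I), x ∈ p := by
    have hmem : x ∈ {r : A | ∃ m : A ⧸ I, m ≠ 0 ∧ r • m = 0} := ⟨m, hm0, hm⟩
    rw [← biUnion_associatedPrimes_eq_zero_divisors] at hmem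
    simpa using hmem
  have h1 := DepthLib.ringKrullDim_quotient_eq_of_mem_associatedPrimes hCM hp
  rw [hsupp] at h1
  obtain ⟨_, h2⟩ := LiaisonH1.quotient_step hd hx hreg
  have hle : Ideal.span {x} ≤ p := (Ideal.span_singleton_le_iff_mem _).2 hxp
  have h3 := ringKrullDim_le_of_surjective (Ideal.Quotient.factor hle) (Ideal.Quotient.factor_surjective hle)
  rw [h1, h2] at h3
  have h4 : d + 1 ≤ d := by exact_mod_cast h3
  omega

end Gor

/-- Linkage commutes with killing a regular sequence. -/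
theorem colon_ofList : ∀ (n : ℕ) (A : Type u) [CommRing A] [LocCoh.IsGorensteinLocalRing A] (ys : List A),
    ys.length = n → ∀ (I : Ideal A) (d : ℕ), I ≠ ⊤ → ringKrullDim A = (d : WithBot ℕ∞) →
    (d : ℕ∞) ≤ LocCoh.depth A (A ⧸ I) → IsWeaklyRegular A ys → (∀ y ∈ ys, y ∈ maximalIdeal A) →
    (Ideal.ofList ys).colon (I : Set A) = (⊥ : Ideal A).colon (I : Set A) ⊔ Ideal.ofList ys ∧
      (⊥ : Ideal A).colon (I : Set A) ⊓ Ideal.ofList ys ≤ Ideal.ofList ys * (⊥ : Ideal A).colon (I : Set A) := by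
  intro n
  induction n with
  | zero =>
    intro A _ _ ys hlen I d _ _ _ _ _
    obtain rfl := List.length_eq_zero_iff.1 hlen
    simp [Ideal.ofList_nil]
  | succ n ih =>
    intro A _ _ ys hlen I d hIne hd hI hreg hmem
    obtain ⟨x, rs, rfl⟩ : ∃ x rs, ys = x :: rs := by
      cases ys with
      | nil => simp at hlen
      | cons x rs => exact ⟨x, rs, rfl⟩
    have hx : x ∈ maximalIdeal A := hmem x (List.mem_cons_self ..)
    obtain ⟨hxA, hrs⟩ := (isWeaklyRegular_cons_iff' A x rs).1 hreg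
    obtain ⟨d, rfl⟩ : ∃ d', d = d' + 1 := by
      refine Nat.exists_eq_add_of_le' ?_
      have h := GorenLib.ringKrullDim_quotient_add_one hx hxA
      haveI : Nontrivial (A ⧸ Ideal.span {x}) := Ideal.Quotient.nontrivial_iff.2
        (ne_top_of_le_ne_top (maximalIdeal.isMaximal A).ne_top ((Ideal.span_singleton_le_iff_mem _).2 hx))
      have h0 := ringKrullDim_nonneg_of_nontrivial (R := A ⧸ Ideal.span {x})
      have h' := add_le_add_left h0 1
      rw [zero_add, h, hd] at h'
      exact_mod_cast h'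
    obtain ⟨hG, hd'⟩ := LiaisonH1.quotient_step hd hx hxA
    have hxI := regular_quot hIne hd hI hx hxA
    set q := Ideal.Quotient.mk (Ideal.span {x})
    set J := (⊥ : Ideal A).colon (I : Set A) with hJdef
    have hker : RingHom.ker q = Ideal.span {x} := Ideal.mk_ker
    have hcomap : ∀ K : Ideal A, (K.map q).comap q = K ⊔ Ideal.span {x} := fun K => by
      rw [Ideal.comap_map_of_surjective q Ideal.Quotient.mk_surjective, ← RingHom.ker_eq_comap_bot, hker]
    have hI' : (I.map q) ≠ ⊤ := fun h => by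
      have h2 := hcomap I
      rw [h, Ideal.comap_top] at h2
      exact (maximalIdeal.isMaximal A).ne_top (top_le_iff.1
        (h2.trans_le (sup_le (le_maximalIdeal hIne) ((Ideal.span_singleton_le_iff_mem _).2 hx))))
    have hmem' : ∀ y ∈ rs.map q, y ∈ maximalIdeal (A ⧸ Ideal.span {x}) := fun y hy => by
      obtain ⟨r, hr, rfl⟩ := List.mem_map.1 hy
      rw [RegLoc.maximalIdeal_quotient]
      exact Ideal.mem_map_of_mem _ (hmem r (List.mem_cons_of_mem _ hr))
    have hrs' : IsWeaklyRegular (A ⧸ Ideal.span {x}) (rs.map q) := by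
      let e : QuotSMulTop x A ≃ₗ[A] A ⧸ Ideal.span ({x} : Set A) :=
        (QuotSMulTop.equivQuotTensor x A).trans (TensorProduct.rid A _)
      exact (LinearEquiv.isWeaklyRegular_congr
        (e.extendScalarsOfSurjective Ideal.Quotient.mk_surjective) _).1 hrs
    obtain ⟨h1, h2⟩ := @ih (A ⧸ Ideal.span {x}) _ hG (rs.map q)
      (by simp at hlen ⊢; omega) (I.map q) d hI' hd' ((LiaisonH1.depth_quot_step I hx hxI d).1 hI) hrs' hmem'
    rw [LiaisonH1.colon_map hd I hI hxA, ← Ideal.map_ofList q rs] at h1 h2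
    constructor
    · refine le_antisymm (fun a ha => ?_) ?_
      · have ha' : q a ∈ ((Ideal.ofList rs).map q).colon (I.map q : Set (A ⧸ Ideal.span {x})) := by
          rw [Submodule.mem_colon]
          intro i hi
          obtain ⟨i, hi', rfl⟩ := (Ideal.mem_map_iff_of_surjective _ Ideal.Quotient.mk_surjective).1 hi
          have := Submodule.mem_colon.1 ha i hi'
          rw [Ideal.ofList_cons, smul_eq_mul, sup_comm, ← hcomap, Ideal.mem_comap, map_mul] at this
          exact this
        rw [h1, ← Ideal.map_sup, ← Ideal.mem_comap, hcomap] at ha'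
        rw [Ideal.ofList_cons, sup_comm (Ideal.span {x}), ← sup_assoc]
        exact ha'
      · refine sup_le (fun a ha => Submodule.mem_colon.2 fun i hi => ?_) (fun a ha => Submodule.mem_colon.2 fun i _ => ?_)
        · rw [smul_eq_mul, LiaisonH1.mem_colon_iff.1 ha i hi]
          exact zero_mem _
        · exact Ideal.mul_mem_right _ _ ha
    · rintro z ⟨hzJ, hz⟩
      rw [Ideal.ofList_cons] at hz ⊢
      have hzq : q z ∈ (J.map q) ⊓ (Ideal.ofList rs).map q := by
        refine ⟨Ideal.mem_map_of_mem _ hzJ, ?_⟩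
        change z ∈ ((Ideal.ofList rs).map q).comap q
        rw [hcomap, sup_comm]
        exact hz
      have h3 := h2 hzq
      rw [← Ideal.map_mul, ← Ideal.mem_comap, hcomap] at h3
      obtain ⟨w, hw, v, hv, rfl⟩ := Submodule.mem_sup.1 h3
      rw [Ideal.sup_mul]
      refine add_mem (Ideal.mem_sup_right hw) (Ideal.mem_sup_left ?_)
      obtain ⟨c, rfl⟩ := Ideal.mem_span_singleton'.1 hv
      have hcx : c * x ∈ J := by
        have hw' : w ∈ J := (Ideal.mul_le_right : Ideal.ofList rs * J ≤ J) hw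
        have h9 := sub_mem hzJ hw'
        rwa [add_sub_cancel_left] at h9
      rw [mul_comm c x] at hcx ⊢
      exact Ideal.mul_mem_mul (Ideal.mem_span_singleton_self x)
        (LiaisonH1.mem_of_regular (LiaisonH1.regular_quot_colon hxA) hcx)

section Flat

variable {R A : Type u} [CommRing R] [CommRing A] [Algebra R A]

/-- A maximal Cohen–Macaulay quotient of a flat algebra over a regular ring is flat. -/
theorem flat_quot [IsRegularLocalRing R] [LocCoh.IsGorensteinLocalRing A] [IsLocalHom (algebraMap R A)]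
    [Module.Flat R A] {J : Ideal A} (hJ : J ≠ ⊤) {d : ℕ} (hd : ringKrullDim A = (d : WithBot ℕ∞))
    (hdep : (d : ℕ∞) ≤ LocCoh.depth A (A ⧸ J)) : Module.Flat R (A ⧸ J) := by
  obtain ⟨hsupp, hCM⟩ := isCM_quot hJ hd hdep
  set n := (maximalIdeal R).spanFinrank with hn
  have hdimR : ringKrullDim R = (n : WithBot ℕ∞) := (IsRegularLocalRing.spanFinrank_maximalIdeal).symm
  have hge := (Miracle4.main n R A (A ⧸ J) rfl).1
  refine (Miracle4.main n R A (A ⧸ J) rfl).2 hCM (le_antisymm hge ?_)
  obtain ⟨f, hf⟩ := RegLoc.exists_fin_generators R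
  have hreg := RegLoc.isRegular_of_span_range _ R (fun i => (f i)) hf rfl
  haveI := Module.FaithfullyFlat.of_flat_of_isLocalHom (A := R) (B := A)
  have h4 := ringKrullDim_add_length_eq_ringKrullDim_of_isRegular _ (hreg.of_faithfullyFlat (S := A))
  have hol : Ideal.ofList (List.ofFn fun i => f i) = maximalIdeal R := by
    refine Eq.trans ?_ hf
    exact congrArg Ideal.span (by ext a; simp)
  rw [← Ideal.map_ofList, hol, List.length_map, List.length_ofFn] at h4
  have hfib : Module.supportDim A (EGA4.FibMod R A (A ⧸ J)) ≤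
      ringKrullDim (A ⧸ (maximalIdeal R).map (algebraMap R A)) := by
    rw [← Module.supportDim_quotient_eq_ringKrullDim]
    let g : (A ⧸ (maximalIdeal R).map (algebraMap R A)) →ₗ[A] EGA4.FibMod R A (A ⧸ J) :=
      Submodule.liftQ _ ((Submodule.mkQ _).comp (Submodule.mkQ J)) fun a ha => by
        rw [LinearMap.mem_ker, LinearMap.comp_apply, Submodule.mkQ_apply, Submodule.Quotient.mk_eq_zero,
          Submodule.mkQ_apply]
        have h1 : (Submodule.Quotient.mk a : A ⧸ J) = a • (Submodule.Quotient.mk 1 : A ⧸ J) := by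
          rw [← Submodule.Quotient.mk_smul, smul_eq_mul, mul_one]
        rw [h1]
        exact Submodule.smul_mem_smul ha trivial
    refine Module.supportDim_le_of_surjective g fun y => ?_
    obtain ⟨y, rfl⟩ := Submodule.mkQ_surjective _ y
    obtain ⟨y, rfl⟩ := Submodule.mkQ_surjective _ y
    exact ⟨Submodule.Quotient.mk y, rfl⟩
  rw [hsupp, ← hd, ← h4]
  exact add_le_add_left hfib _

end Flat

end Groth.Agent.LiaisonFlat2
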